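import Groth.Agent.PicInsep25.Basic
import Groth.Agent.EGA73.IntegralNormal
import Groth.Agent.Desc59.Pic.RigBase
import Groth.Agent.RB70.FinSurjDescend
import Groth.Agent.Crv77.InvMod
import Groth.Agent.AbVar93.TrivDescent
import Mathlib.AlgebraicGeometry.Morphisms.Etale
import Mathlib.FieldTheory.PurelyInseparable.PerfectClosure

/-! `p`-th roots along finite étale covers of normal schemes in characteristic `p`. -/

set_option autoImplicit false
set_option maxSynthPendingDepth 6
set_option linter.style.haveILetI false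
set_option backward.isDefEq.respectTransparency.types false

universe u

noncomputable section

open CategoryTheory CategoryTheory.Limits AlgebraicGeometry TopologicalSpace Opposite
open Groth.Agent.Var76.LineBundle

namespace Groth.Agent.PicRoot25

variable {X X' : Scheme.{u}}

/-- A section of a normal integral scheme with a `p`-th root on a nonempty étale scheme has one. -/
theorem exists_root [IsIntegral X] (hnorm : Pi1.IsNormalScheme X) {p : ℕ} [Fact p.Prime]
    (f : X' ⟶ X) [Etale f] (hf : genericPoint X ∈ Set.range f) {U : X.Opens} (hU : IsAffineOpen U)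
    [Nonempty U] [CharP Γ(X, U) p] (u : Γ(X, U)) (v : Γ(X', f ⁻¹ᵁ U)) (hv : v ^ p = f.app U u) :
    ∃ a : Γ(X, U), a ^ p = u := by
  obtain ⟨x', hx'⟩ := hf
  have hηU : f x' ∈ U := by
    rw [hx']
    exact ((genericPoint_spec X).mem_open_set_iff U.isOpen).mpr (by simpa using ‹Nonempty U›)
  let K := X.presheaf.stalk (f x')
  have hK : IsField K := by
    show IsField (X.presheaf.stalk (f x'))
    rw [hx']
    exact Field.toIsField X.functionField
  let κ := X.residueField (f x')
  let E := X'.residueField x'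
  letI : Algebra κ E := (f.residueFieldMap x').hom.toAlgebra
  haveI : Algebra.IsSeparable κ E := inferInstance
  haveI : Nontrivial K := hK.nontrivial
  have hres : Function.Injective (IsLocalRing.residue K) := (RingHom.injective_iff_ker_eq_bot (IsLocalRing.residue K)).2 (by
    rw [IsLocalRing.ker_residue]
    exact IsLocalRing.isField_iff_maximalIdeal_eq.1 hK)
  let ev : Γ(X, U) →+* κ := (X.residue (f x')).hom.comp (X.presheaf.germ U (f x') hηU).hom
  let ev' : Γ(X', f ⁻¹ᵁ U) →+* E := (X'.residue x').hom.comp (X'.presheaf.germ (f ⁻¹ᵁ U) x' hηU).hom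
  have hev : ∀ r : Γ(X, U), algebraMap κ E (ev r) = ev' (f.app U r) := by
    intro r
    show f.residueFieldMap x' (X.residue (f x') (X.presheaf.germ U (f x') hηU r)) =
      X'.residue x' (X'.presheaf.germ (f ⁻¹ᵁ U) x' hηU (f.app U r))
    exact (ConcreteCategory.congr_hom (Scheme.residue_residueFieldMap f x') _).trans
      (congrArg (X'.residue x') (ConcreteCategory.congr_hom (f.germ_stalkMap U x' hηU) r))
  haveI : CharP κ p := charP_of_injective_ringHom (f := ev) (fun a b h => by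
    have h1 : (X.presheaf.germ U (f x') hηU) a = (X.presheaf.germ U (f x') hηU) b := hres h
    exact germ_injective_of_isIntegral X (f x') hηU h1) p
  haveI : ExpChar κ p := ExpChar.prime Fact.out
  have hw : ev' v ^ p = algebraMap κ E (ev u) := by rw [hev, ← map_pow, hv]
  have h2 := IntermediateField.adjoin_simple_eq_adjoin_pow_expChar_of_isSeparable' (F := κ) (E := E) (ev' v) p
  rw [hw, IntermediateField.adjoin_simple_eq_bot_iff.2 (IntermediateField.mem_bot.2 ⟨ev u, rfl⟩),
    IntermediateField.adjoin_simple_eq_bot_iff, IntermediateField.mem_bot] at h2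
  obtain ⟨c, hc⟩ := h2
  have hc' : c ^ p = ev u := (algebraMap κ E).injective (by rw [map_pow, hc, hw])
  obtain ⟨b, rfl⟩ := X.residue_surjective (f x') c
  have hb : b ^ p = X.presheaf.germ U (f x') hηU u := hres (by rw [map_pow]; exact hc')
  haveI := EGA73.isIntegrallyClosed_sections hnorm hU
  obtain ⟨b₁, hb₁⟩ : ∃ b₁ : X.functionField, b₁ ^ p = X.germToFunctionField U u := by
    have : ∀ (y : X) (hy : y ∈ U), y = genericPoint X → (∃ b : X.presheaf.stalk y, b ^ p = X.presheaf.germ U y hy u) →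
        ∃ b₁ : X.functionField, b₁ ^ p = X.germToFunctionField U u := by
      rintro _ _ rfl h; exact h
    exact this _ hηU hx' ⟨b, hb⟩
  haveI := functionField_isFractionRing_of_isAffineOpen X U hU
  obtain ⟨a, ha⟩ := IsIntegrallyClosed.exists_algebraMap_eq_of_isIntegral_pow (R := Γ(X, U))
    (Fact.out : p.Prime).pos (x := b₁) (by
      rw [hb₁]
      exact isIntegral_algebraMap)
  refine ⟨a, Scheme.germToFunctionField_injective X U ?_⟩
  rw [map_pow]
  exact (congrArg (· ^ p) ha).trans hb₁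

/-- `p`-th roots of one are trivial on an integral scheme of characteristic `p`. -/
theorem eq_one_of_pow_eq_one [IsIntegral X] {p : ℕ} [Fact p.Prime] [CharP Γ(X, ⊤) p] {W : X.Opens}
    (b : Γ(X, W)) (hb : b ^ p = 1) : b = 1 := by
  rcases subsingleton_or_nontrivial Γ(X, W) with h | h
  · exact Subsingleton.elim _ _
  · haveI : Nonempty W := by
      by_contra hn
      rw [not_nonempty_iff] at hn
      have : W = ⊥ := le_bot_iff.1 fun z hz => (hn.false ⟨z, hz⟩).elim
      subst this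
      exact not_subsingleton Γ(X, ⊥) inferInstance
    haveI : CharP Γ(X, W) p := charP_of_injective_ringHom
      (f := (X.presheaf.map (homOfLE (le_top : W ≤ ⊤)).op).hom) (map_injective_of_isIntegral X _) p
    haveI : ExpChar Γ(X, W) p := ExpChar.prime Fact.out
    exact frobenius_inj Γ(X, W) p (by rw [frobenius_def, frobenius_def, one_pow, hb])

/-- **No finite étale cover with `p`-th roots of units kills a class of order `p`.** -/
theorem iso_of_etale_cover [IsIntegral X] (hnorm : Pi1.IsNormalScheme X) {p : ℕ} [Fact p.Prime]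
    [CharP Γ(X, ⊤) p] (f : X' ⟶ X) [IsFinite f] [Etale f] [Nonempty X']
    (hroot : ∀ u : Γ(X', ⊤), IsUnit u → ∃ v : Γ(X', ⊤), v ^ p = u)
    {M : X.Modules} (hM : PicF.IsInvertible M) (hp : Nonempty (CohB1.tensorPow M p ≅ Coh.structureModule X))
    (hf : Nonempty ((Scheme.Modules.pullback f).obj M ≅ Coh.structureModule X')) :
    Nonempty (M ≅ Coh.structureModule X) := by
  obtain ⟨i⟩ := hp
  obtain ⟨j⟩ := hf
  have hp0 : p ≠ 0 := (Fact.out : p.Prime).ne_zero
  let σ₀ : Γ(CohB1.tensorPow M p, ⊤) := i.inv.app ⊤ (show Γ(Coh.structureModule X, ⊤) from (1 : Γ(X, ⊤)))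
  have hσ₀ : IsFrame (CohB1.tensorPow M p) ⊤ σ₀ := AbVar93.isFrame_of_iso_unit i σ₀ (by
    rw [show i.hom.app ⊤ σ₀ = (show Γ(Coh.structureModule X, ⊤) from (1 : Γ(X, ⊤))) from
      ConcreteCategory.congr_hom (congrArg (fun q => Scheme.Modules.Hom.app q ⊤) i.inv_hom_id) _]
    exact isUnit_one)
  let G := (Scheme.Modules.pullback f).obj M
  let e₁ : Γ(G, ⊤) := j.inv.app ⊤ (show Γ(Coh.structureModule X', ⊤) from (1 : Γ(X', ⊤)))
  have he₁ : IsFrame G ⊤ e₁ := AbVar93.isFrame_of_iso_unit j e₁ (by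
    rw [show j.hom.app ⊤ e₁ = (show Γ(Coh.structureModule X', ⊤) from (1 : Γ(X', ⊤))) from
      ConcreteCategory.congr_hom (congrArg (fun q => Scheme.Modules.Hom.app q ⊤) j.inv_hom_id) _]
    exact isUnit_one)
  let Φ := Amp73.pullPowIso f hM p
  let σ' : Γ(CohB1.tensorPow G p, ⊤) := Φ.hom.app ⊤ (Amp73.pullS f (CohB1.tensorPow M p) ⊤ σ₀)
  have hσ' : IsFrame (CohB1.tensorPow G p) ⊤ σ' :=
    (Amp73.isFrame_app_iff Φ.hom _).2 (Props58.PullTensor.isFrame_pullS f hσ₀)
  obtain ⟨c, hc⟩ := ((Amp73.isFrame_epow he₁ p) ⊤ le_rfl).2 σ'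
  dsimp only at hc
  rw [Amp73.res_self] at hc
  have hcu : IsUnit c := (Amp73.isFrame_smul_iff (Amp73.isFrame_epow he₁ p) c).1 (hc.symm ▸ hσ')
  obtain ⟨w, hw⟩ := hroot c hcu
  have hwu : IsUnit w := (isUnit_pow_iff hp0).1 (hw.symm ▸ hcu)
  let e : Γ(G, ⊤) := w • e₁
  have he : IsFrame G ⊤ e := (Amp73.isFrame_smul_iff he₁ w).2 hwu
  have hep : Amp73.epow e p = σ' := by
    show Amp73.epow (w • e₁) p = σ'
    rw [Amp73.epow_smul, hw, hc]
  -- the generic point is in the image
  have hgen : genericPoint X ∈ Set.range f := by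
    have h1 : IsClopen (Set.range f) := ⟨f.isClosedMap.isClosed_range, f.isOpenMap.isOpen_range⟩
    rcases isClopen_iff.1 h1 with h | h
    · exact absurd (Set.range_nonempty f) (Set.not_nonempty_iff_eq_empty.2 h)
    · rw [h]; trivial
  -- local roots
  have hloc : ∀ x : X, ∃ U : X.Opens, x ∈ U ∧ ∃ n : Γ(M, U), IsFrame M U n ∧
      Amp73.epow n p = res _ (le_top : U ≤ ⊤) σ₀ := by
    intro x
    obtain ⟨W, hxW, -, m, hm⟩ := Mero90.exists_affine_frame hM x ⊤ trivial
    haveI : Nonempty W.1 := ⟨⟨x, hxW⟩⟩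
    haveI : CharP Γ(X, W.1) p := charP_of_injective_ringHom
      (f := (X.presheaf.map (homOfLE (le_top : W.1 ≤ ⊤)).op).hom) (map_injective_of_isIntegral X _) p
    obtain ⟨u, hu⟩ := ((Amp73.isFrame_epow hm p) W.1 le_rfl).2 (res _ (le_top : W.1 ≤ ⊤) σ₀)
    dsimp only at hu
    rw [Amp73.res_self] at hu
    have hm' := Props58.PullTensor.isFrame_pullS f hm
    obtain ⟨v, hv⟩ := (hm' (f ⁻¹ᵁ W.1) le_rfl).2 (res G (le_top : f ⁻¹ᵁ W.1 ≤ ⊤) e)
    dsimp only at hv
    rw [Amp73.res_self] at hv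
    have h1 : v ^ p • Amp73.epow (Amp73.pullS f M W.1 m) p =
        f.app W.1 u • Amp73.epow (Amp73.pullS f M W.1 m) p := by
      rw [← Amp73.epow_smul, hv, ← Amp73.res_epow, hep, ← RB70.FinSurj.pullPowIso_epow f hM W.1 m p]
      show res _ _ (Φ.hom.app ⊤ (Amp73.pullS f (CohB1.tensorPow M p) ⊤ σ₀)) = _
      rw [← Scheme.Modules.Hom.app_smul, ← Amp73.pullS_smul, hu, ← Amp73.res_pullS]
      exact (Mero90.app_res Φ.hom _ _).symm
    have hvu : v ^ p = f.app W.1 u := by
      refine ((Amp73.isFrame_epow hm' p) (f ⁻¹ᵁ W.1) le_rfl).1 ?_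
      dsimp only
      rw [Amp73.res_self]
      exact h1
    obtain ⟨a, ha⟩ := exists_root hnorm f hgen W.2 u v hvu
    have huu : IsUnit u := (Amp73.isFrame_smul_iff (Amp73.isFrame_epow hm p) u).1 (hu.symm ▸ hσ₀.res le_top)
    refine ⟨W.1, hxW, a • m, (Amp73.isFrame_smul_iff hm a).2 ((isUnit_pow_iff hp0).1 (ha.symm ▸ huu)), ?_⟩
    rw [Amp73.epow_smul, ha, hu]
  choose U hU n hn hnp using hloc
  have hcompat : ∀ x y, res M (inf_le_left : U x ⊓ U y ≤ U x) (n x) = res M (inf_le_right : U x ⊓ U y ≤ U y) (n y) := by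
    intro x y
    obtain ⟨b, hb⟩ := ((hn x).res (inf_le_left : U x ⊓ U y ≤ U x) _ le_rfl).2
      (res M (inf_le_right : U x ⊓ U y ≤ U y) (n y))
    dsimp only at hb
    rw [Amp73.res_self] at hb
    have h1 : Amp73.epow (res M (inf_le_left : U x ⊓ U y ≤ U x) (n x)) p =
        Amp73.epow (res M (inf_le_right : U x ⊓ U y ≤ U y) (n y)) p := by
      rw [← Amp73.res_epow, ← Amp73.res_epow, hnp, hnp, res_res, res_res]
    rw [← hb, Amp73.epow_smul] at h1
    have h2 : b ^ p = 1 := by
      refine ((Amp73.isFrame_epow ((hn x).res (inf_le_left : U x ⊓ U y ≤ U x)) p) _ le_rfl).1 ?_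
      dsimp only
      rw [Amp73.res_self, ← h1, one_smul]
    rw [← hb, eq_one_of_pow_eq_one b h2, one_smul]
  obtain ⟨N, hN, -⟩ := TopCat.Sheaf.existsUnique_gluing' (C := AddCommGrpCat.{u})
    (⟨M.presheaf, M.isSheaf⟩ : TopCat.Sheaf AddCommGrpCat.{u} X) U ⊤ (fun _ => homOfLE le_top)
    (fun x _ => Opens.mem_iSup.mpr ⟨x, hU x⟩) n hcompat
  have hNf : IsFrame M ⊤ N := Amp73.isFrame_of_locally N fun x _ => ⟨U x, le_top, hU x, by
    rw [show res M (le_top : U x ≤ ⊤) N = n x from hN x]; exact hn x⟩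
  haveI := Crv77.isIso_unitHom_of_isFrame hNf
  exact ⟨(asIso (EGA73.unitHom M N)).symm⟩

end Groth.Agent.PicRoot25
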